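import Groth.Prelude.Def_W4stkcategoriessitesFib
import Mathlib

/-! Factorisation of a morphism of fibred categories. -/

set_option autoImplicit false
open CategoryTheory CategoryTheory.Functor
universe v u

namespace Groth.Agent.FibFactorLib

variable {C : Type u} [Category.{v} C] {𝒳 𝒴 : BasedCategory.{v, max u v} C} (F : 𝒳 ⥤ᵇ 𝒴)

def vertProp : ObjectProperty (Comma (CategoryTheory.Functor.id 𝒴.obj) F.toFunctor) :=
  fun c => IsHomLift 𝒴.p (𝟙 (𝒳.p.obj c.right)) c.hom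

abbrev Obj : Type (max u v) := (vertProp F).FullSubcategory

def graph : BasedCategory.{v, max u v} C :=
  BasedCategory.ofFunctor ((vertProp F).ι ⋙ Comma.snd _ _ ⋙ 𝒳.p)

variable {F}

theorem obj_eq (c : Obj F) : 𝒴.p.obj c.obj.left = 𝒳.p.obj c.obj.right :=
  haveI : IsHomLift 𝒴.p (𝟙 (𝒳.p.obj c.obj.right)) c.obj.hom := c.property
  IsHomLift.domain_eq 𝒴.p (𝟙 (𝒳.p.obj c.obj.right)) c.obj.hom

theorem map_left_eq {c d : Obj F} (Φ : c ⟶ d) :
    𝒴.p.map Φ.hom.left = eqToHom (obj_eq c) ≫ 𝒳.p.map Φ.hom.right ≫ eqToHom (obj_eq d).symm := by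
  haveI : IsHomLift 𝒴.p (𝟙 (𝒳.p.obj c.obj.right)) c.obj.hom := c.property
  haveI : IsHomLift 𝒴.p (𝟙 (𝒳.p.obj d.obj.right)) d.obj.hom := d.property
  have hd := IsHomLift.fac' 𝒴.p (𝟙 (𝒳.p.obj d.obj.right)) d.obj.hom
  have hc := IsHomLift.fac' 𝒴.p (𝟙 (𝒳.p.obj c.obj.right)) c.obj.hom
  have h := congrArg 𝒴.p.map Φ.hom.w
  simp only [Functor.map_comp, Functor.id_map, hd, hc, Category.id_comp, eqToHom_trans] at h
  have hF := CategoryTheory.Functor.congr_hom F.w Φ.hom.right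
  rw [Functor.comp_map] at hF
  rw [hF] at h
  simp only [Category.assoc, eqToHom_trans, eqToHom_trans_assoc] at h
  have h2 := congrArg (fun k => k ≫ eqToHom ((F.w_obj d.obj.right).trans (obj_eq d).symm)) h
  simpa using h2

variable (F)

def vFun : graph F ⥤ᵇ 𝒴 where
  toFunctor := (vertProp F).ι ⋙ Comma.fst _ _
  w := CategoryTheory.Functor.ext (fun c => obj_eq c) (fun _ _ Φ => map_left_eq Φ)

def wFun : graph F ⥤ᵇ 𝒳 where
  toFunctor := (vertProp F).ι ⋙ Comma.snd _ _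
  w := rfl

def uFun : 𝒳 ⥤ᵇ graph F where
  toFunctor :=
    (vertProp F).lift
      { obj := fun x => { left := F.obj x, right := x, hom := 𝟙 (F.obj x) }
        map := fun {x y} a => { left := F.map a, right := a, w := by simp }
        map_id := fun x => by ext <;> simp
        map_comp := fun a b => by ext <;> simp }
      (fun x => by dsimp [vertProp]; infer_instance)
  w := rfl

instance : (uFun F).toFunctor.Full where
  map_surjective {x y} Φ := ⟨Φ.hom.right, by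
    apply ObjectProperty.hom_ext
    refine CommaMorphism.ext ?_ rfl
    have := Φ.hom.w
    change Φ.hom.left ≫ 𝟙 _ = 𝟙 _ ≫ F.map Φ.hom.right at this
    rw [Category.comp_id, Category.id_comp] at this
    exact this.symm⟩

instance : (uFun F).toFunctor.Faithful where
  map_injective {x y} a b h := congrArg (fun Φ : (uFun F).obj x ⟶ (uFun F).obj y => Φ.hom.right) h

def adj : (wFun F).toFunctor ⊣ (uFun F).toFunctor :=
  Adjunction.mkOfHomEquiv
    { homEquiv := fun c y =>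
        { toFun := fun a => ObjectProperty.homMk
            { left := c.obj.hom ≫ F.map a, right := a, w := by exact Category.comp_id _ }
          invFun := fun Φ => Φ.hom.right
          left_inv := fun a => rfl
          right_inv := fun Φ => by
            apply ObjectProperty.hom_ext
            refine CommaMorphism.ext ?_ rfl
            exact (Φ.hom.w.symm.trans (Category.comp_id _)) }
      homEquiv_naturality_left_symm := fun _ _ => rfl
      homEquiv_naturality_right := fun a b => by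
        apply ObjectProperty.hom_ext
        refine CommaMorphism.ext ?_ rfl
        change _ ≫ F.map (a ≫ b) = (_ ≫ F.map a) ≫ F.map b
        rw [Functor.map_comp]
        exact (Category.assoc _ _ _).symm }

variable {F}

theorem lift_left {R S : C} (k : R ⟶ S) {c d : Obj F} (Φ : c ⟶ d) [IsHomLift (graph F).p k Φ] :
    IsHomLift 𝒴.p k Φ.hom.left :=
  BasedFunctor.preserves_isHomLift (vFun F) k Φ

theorem lift_right {R S : C} (k : R ⟶ S) {c d : Obj F} (Φ : c ⟶ d) [IsHomLift (graph F).p k Φ] :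
    IsHomLift 𝒳.p k Φ.hom.right :=
  BasedFunctor.preserves_isHomLift (wFun F) k Φ

theorem lift_graph {R S : C} (k : R ⟶ S) {c d : Obj F} (Φ : c ⟶ d) [IsHomLift 𝒳.p k Φ.hom.right] :
    IsHomLift (graph F).p k Φ :=
  IsHomLift.of_fac (graph F).p k Φ (IsHomLift.domain_eq 𝒳.p k Φ.hom.right :)
    (IsHomLift.codomain_eq 𝒳.p k Φ.hom.right :) (IsHomLift.fac 𝒳.p k Φ.hom.right :)

theorem right_of_left {R S : C} (k : R ⟶ S) {c d : Obj F} (Φ : c ⟶ d) [IsHomLift 𝒴.p k Φ.hom.left] :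
    IsHomLift 𝒳.p k Φ.hom.right := by
  refine IsHomLift.of_fac 𝒳.p k Φ.hom.right
    ((obj_eq c).symm.trans (IsHomLift.domain_eq 𝒴.p k Φ.hom.left))
    ((obj_eq d).symm.trans (IsHomLift.codomain_eq 𝒴.p k Φ.hom.left)) ?_
  refine (IsHomLift.fac 𝒴.p k Φ.hom.left).trans ?_
  rw [map_left_eq Φ]
  simp

/-- The lift of a pair of cartesian arrows is cartesian. -/
theorem isStronglyCartesian_mk (hF : FibCat.PreservesStronglyCartesian F) {R S : C} (h : R ⟶ S)
    {c d : Obj F} (Φ : c ⟶ d) (h1 : 𝒳.p.IsStronglyCartesian h Φ.hom.right)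
    (h2 : 𝒴.p.IsStronglyCartesian h Φ.hom.left) : (graph F).p.IsStronglyCartesian h Φ := by
  haveI := hF h Φ.hom.right h1
  haveI : IsHomLift (graph F).p h Φ := lift_graph h Φ
  constructor
  intro e g Φ' hΦ'
  haveI := lift_left (g ≫ h) Φ'
  haveI := lift_right (g ≫ h) Φ'
  let χr := IsStronglyCartesian.map 𝒳.p h Φ.hom.right (f' := g ≫ h) rfl Φ'.hom.right
  let χl := IsStronglyCartesian.map 𝒴.p h Φ.hom.left (f' := g ≫ h) rfl Φ'.hom.left
  have hc : IsHomLift 𝒴.p (𝟙 R) c.obj.hom := by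
    have : 𝒳.p.obj c.obj.right = R := IsHomLift.domain_eq 𝒳.p h Φ.hom.right
    rw [← this]; exact c.property
  haveI := hc
  haveI : IsHomLift 𝒴.p (𝟙 (𝒳.p.obj e.obj.right)) e.obj.hom := e.property
  haveI l1 : IsHomLift 𝒴.p g (χl ≫ c.obj.hom) := by
    have : IsHomLift 𝒴.p (g ≫ 𝟙 R) (χl ≫ c.obj.hom) := inferInstance
    rwa [Category.comp_id] at this
  haveI l2 : IsHomLift 𝒴.p g (e.obj.hom ≫ F.map χr) := by
    have h0 : IsHomLift 𝒴.p g (F.map χr) := inferInstance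
    exact IsHomLift.of_fac 𝒴.p g _ (obj_eq e) (IsHomLift.codomain_eq 𝒴.p g (F.map χr)) (by
      have e1 := IsHomLift.fac' 𝒴.p g (F.map χr)
      have e2 := IsHomLift.fac' 𝒴.p (𝟙 (𝒳.p.obj e.obj.right)) e.obj.hom
      rw [Functor.map_comp, e1, e2]
      simp)
  have hw : χl ≫ c.obj.hom = e.obj.hom ≫ F.map χr := by
    refine IsStronglyCartesian.ext 𝒴.p h (F.map Φ.hom.right) g ?_
    have h3 := Φ.hom.w
    have h4 := Φ'.hom.w
    simp only [Functor.id_map] at h3 h4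
    rw [Category.assoc, Category.assoc, ← h3, ← Category.assoc, IsStronglyCartesian.fac, h4,
      ← Functor.map_comp, IsStronglyCartesian.fac]
  let χ : e ⟶ c := ObjectProperty.homMk { left := χl, right := χr, w := hw }
  refine ⟨χ, ⟨?_, ?_⟩, ?_⟩
  · haveI : IsHomLift 𝒳.p g χ.hom.right := inferInstanceAs (IsHomLift 𝒳.p g χr)
    exact lift_graph g χ
  · apply ObjectProperty.hom_ext
    exact CommaMorphism.ext (IsStronglyCartesian.fac 𝒴.p h Φ.hom.left rfl Φ'.hom.left)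
      (IsStronglyCartesian.fac 𝒳.p h Φ.hom.right rfl Φ'.hom.right)
  · rintro χ' ⟨hχ', hχ'2⟩
    haveI := lift_left g χ'
    haveI := lift_right g χ'
    apply ObjectProperty.hom_ext
    exact CommaMorphism.ext
      (IsStronglyCartesian.map_uniq 𝒴.p h Φ.hom.left rfl Φ'.hom.left χ'.hom.left (congrArg (fun k => k.hom.left) hχ'2))
      (IsStronglyCartesian.map_uniq 𝒳.p h Φ.hom.right rfl Φ'.hom.right χ'.hom.right (congrArg (fun k => k.hom.right) hχ'2))

theorem graph_isFibered [𝒳.p.IsFibered] [𝒴.p.IsFibered] (hF : FibCat.PreservesStronglyCartesian F) :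
    (graph F).p.IsFibered := by
  refine Functor.IsFibered.of_exists_isStronglyCartesian fun (d : Obj F) R (h : R ⟶ 𝒳.p.obj d.obj.right) => ?_
  obtain ⟨x', φ, hφ⟩ : ∃ (x' : 𝒳.obj) (φ : x' ⟶ d.obj.right), 𝒳.p.IsStronglyCartesian h φ :=
    ⟨_, IsPreFibered.pullbackMap (p := 𝒳.p) rfl h, Functor.IsFibered.isStronglyCartesian_of_isCartesian _ _ _⟩
  obtain ⟨y', ψ, hψ⟩ : ∃ (y' : 𝒴.obj) (ψ : y' ⟶ d.obj.left), 𝒴.p.IsStronglyCartesian h ψ :=
    ⟨_, IsPreFibered.pullbackMap (p := 𝒴.p) (obj_eq d) h, Functor.IsFibered.isStronglyCartesian_of_isCartesian _ _ _⟩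
  have hR : 𝒳.p.obj x' = R := IsHomLift.domain_eq 𝒳.p h φ
  subst hR
  haveI := hF h φ hφ
  haveI : IsHomLift 𝒴.p (𝟙 (𝒳.p.obj d.obj.right)) d.obj.hom := d.property
  haveI : IsHomLift 𝒴.p h (ψ ≫ d.obj.hom) := by
    exact IsHomLift.comp_lift_id_right' 𝒴.p h ψ (𝒳.p.obj d.obj.right) d.obj.hom
  let f' := IsStronglyCartesian.map 𝒴.p h (F.map φ) (g := 𝟙 _) (f' := h) (Category.id_comp h).symm (ψ ≫ d.obj.hom)
  let c : Obj F := ⟨{ left := y', right := x', hom := f' }, (inferInstance : IsHomLift 𝒴.p (𝟙 (𝒳.p.obj x')) f')⟩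
  let Φ : c ⟶ d := ObjectProperty.homMk
    { left := ψ, right := φ, w := (IsStronglyCartesian.fac 𝒴.p h (F.map φ) (Category.id_comp h).symm (ψ ≫ d.obj.hom)).symm }
  exact ⟨c, Φ, isStronglyCartesian_mk hF h Φ hφ hψ⟩

theorem vFun_isFibered [𝒳.p.IsFibered] (hF : FibCat.PreservesStronglyCartesian F) :
    (vFun F).toFunctor.IsFibered := by
  refine Functor.IsFibered.of_exists_isStronglyCartesian fun (d : Obj F) (y' : 𝒴.obj) (b : y' ⟶ d.obj.left) => ?_
  let h : 𝒴.p.obj y' ⟶ 𝒳.p.obj d.obj.right := 𝒴.p.map b ≫ eqToHom (obj_eq d)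
  haveI hb : IsHomLift 𝒴.p h b := IsHomLift.of_fac 𝒴.p h b rfl (obj_eq d) (by simp [h])
  obtain ⟨x', φ, hφ⟩ : ∃ (x' : 𝒳.obj) (φ : x' ⟶ d.obj.right), 𝒳.p.IsStronglyCartesian h φ :=
    ⟨_, IsPreFibered.pullbackMap (p := 𝒳.p) rfl h, Functor.IsFibered.isStronglyCartesian_of_isCartesian _ _ _⟩
  haveI := hF h φ hφ
  haveI : IsHomLift 𝒴.p (𝟙 (𝒳.p.obj d.obj.right)) d.obj.hom := d.property
  haveI : IsHomLift 𝒴.p h (b ≫ d.obj.hom) := IsHomLift.comp_lift_id_right' 𝒴.p h b (𝒳.p.obj d.obj.right) d.obj.hom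
  let f' := IsStronglyCartesian.map 𝒴.p h (F.map φ) (g := 𝟙 _) (f' := h) (Category.id_comp h).symm (b ≫ d.obj.hom)
  have hf' : IsHomLift 𝒴.p (𝟙 (𝒳.p.obj x')) f' := by
    rw [IsHomLift.domain_eq 𝒳.p h φ]; exact inferInstanceAs (IsHomLift 𝒴.p (𝟙 (𝒴.p.obj y')) f')
  let c : Obj F := ⟨{ left := y', right := x', hom := f' }, hf'⟩
  let Φ : c ⟶ d := ObjectProperty.homMk
    { left := b, right := φ, w := (IsStronglyCartesian.fac 𝒴.p h (F.map φ) (Category.id_comp h).symm (b ≫ d.obj.hom)).symm }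
  refine ⟨c, Φ, ?_⟩
  haveI hbΦ : IsHomLift (vFun F).toFunctor b Φ := Functor.IsHomLift.map (p := (vFun F).toFunctor) Φ
  refine @Functor.IsStronglyCartesian.mk _ _ _ _ (vFun F).toFunctor _ _ _ _ b Φ hbΦ ?_
  intro (e : Obj F) (g : e.obj.left ⟶ y') (Φ' : e ⟶ d) hΦ'
  have hl : Φ'.hom.left = g ≫ b :=
    (@IsHomLift.eq_of_isHomLift _ _ _ _ (vFun F).toFunctor e d (g ≫ b) Φ' hΦ').symm
  let g0 : 𝒳.p.obj e.obj.right ⟶ 𝒴.p.obj y' := eqToHom (obj_eq e).symm ≫ 𝒴.p.map g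
  haveI hg : IsHomLift 𝒴.p g0 g := IsHomLift.of_fac 𝒴.p g0 g (obj_eq e) rfl (by simp [g0])
  haveI hl' : IsHomLift 𝒴.p (g0 ≫ h) Φ'.hom.left := by rw [hl]; infer_instance
  haveI := right_of_left (g0 ≫ h) Φ'
  let χr := IsStronglyCartesian.map 𝒳.p h φ (f' := g0 ≫ h) rfl Φ'.hom.right
  haveI : IsHomLift 𝒴.p (𝟙 (𝒳.p.obj e.obj.right)) e.obj.hom := e.property
  haveI l1 : IsHomLift 𝒴.p g0 (g ≫ f') := IsHomLift.comp_lift_id_right' 𝒴.p g0 g (𝒳.p.obj x') f'
  haveI l2 : IsHomLift 𝒴.p g0 (e.obj.hom ≫ F.map χr) :=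
    IsHomLift.comp_lift_id_left' 𝒴.p (𝒳.p.obj e.obj.right) e.obj.hom g0 (F.map χr)
  have hw : g ≫ f' = e.obj.hom ≫ F.map χr := by
    refine IsStronglyCartesian.ext 𝒴.p h (F.map φ) g0 ?_
    have h4 := Φ'.hom.w
    simp only [Functor.id_map, hl] at h4
    rw [Category.assoc, Category.assoc, IsStronglyCartesian.fac, ← Category.assoc, h4,
      ← Functor.map_comp, IsStronglyCartesian.fac]
  let χ : e ⟶ c := ObjectProperty.homMk { left := g, right := χr, w := hw }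
  refine ⟨χ, ⟨Functor.IsHomLift.map (p := (vFun F).toFunctor) χ, ?_⟩, ?_⟩
  · apply ObjectProperty.hom_ext
    exact CommaMorphism.ext hl.symm (IsStronglyCartesian.fac 𝒳.p h φ rfl Φ'.hom.right)
  · rintro χ' ⟨hχ', hχ'2⟩
    have hl2 : χ'.hom.left = g :=
      (@IsHomLift.eq_of_isHomLift _ _ _ _ (vFun F).toFunctor e c g χ' hχ').symm
    haveI : IsHomLift 𝒴.p g0 χ'.hom.left := by rw [hl2]; exact hg
    haveI := right_of_left g0 χ'
    apply ObjectProperty.hom_ext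
    exact CommaMorphism.ext hl2
      (IsStronglyCartesian.map_uniq 𝒳.p h φ rfl Φ'.hom.right χ'.hom.right (congrArg (fun k => k.hom.right) hχ'2))

theorem preserves_all [𝒳.p.IsFibered] [𝒴.p.IsFibered] (hF : FibCat.PreservesStronglyCartesian F) :
    FibCat.PreservesStronglyCartesian (uFun F) ∧ FibCat.PreservesStronglyCartesian (vFun F) ∧
      FibCat.PreservesStronglyCartesian (wFun F) := by
  refine ⟨fun R S f a b φ hφ => isStronglyCartesian_mk hF f ((uFun F).map φ) hφ (hF f φ hφ), ?_⟩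
  -- a strongly cartesian arrow of the graph differs from the standard one by a vertical isomorphism
  suffices H : ∀ ⦃R S : C⦄ (f : R ⟶ S) ⦃c d : Obj F⦄ (Φ : c ⟶ d), (graph F).p.IsStronglyCartesian f Φ →
      𝒴.p.IsStronglyCartesian f Φ.hom.left ∧ 𝒳.p.IsStronglyCartesian f Φ.hom.right from
    ⟨fun R S f c d Φ h => (H f Φ h).1, fun R S f c d Φ h => (H f Φ h).2⟩
  intro R S f c d Φ hΦ
  haveI := hΦ.toIsHomLift
  have hdS : 𝒳.p.obj d.obj.right = S := IsHomLift.codomain_eq (graph F).p f Φ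
  subst hdS
  obtain ⟨x', φ, hφ⟩ : ∃ (x' : 𝒳.obj) (φ : x' ⟶ d.obj.right), 𝒳.p.IsStronglyCartesian f φ :=
    ⟨_, IsPreFibered.pullbackMap (p := 𝒳.p) rfl f, Functor.IsFibered.isStronglyCartesian_of_isCartesian _ _ _⟩
  obtain ⟨y', ψ, hψ⟩ : ∃ (y' : 𝒴.obj) (ψ : y' ⟶ d.obj.left), 𝒴.p.IsStronglyCartesian f ψ :=
    ⟨_, IsPreFibered.pullbackMap (p := 𝒴.p) (obj_eq d) f, Functor.IsFibered.isStronglyCartesian_of_isCartesian _ _ _⟩
  have hR : 𝒳.p.obj x' = R := IsHomLift.domain_eq 𝒳.p f φ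
  subst hR
  haveI := hF f φ hφ
  haveI : IsHomLift 𝒴.p (𝟙 (𝒳.p.obj d.obj.right)) d.obj.hom := d.property
  haveI : IsHomLift 𝒴.p f (ψ ≫ d.obj.hom) := IsHomLift.comp_lift_id_right' 𝒴.p f ψ (𝒳.p.obj d.obj.right) d.obj.hom
  let f' := IsStronglyCartesian.map 𝒴.p f (F.map φ) (g := 𝟙 _) (f' := f) (Category.id_comp f).symm (ψ ≫ d.obj.hom)
  let c' : Obj F := ⟨{ left := y', right := x', hom := f' }, (inferInstance : IsHomLift 𝒴.p (𝟙 (𝒳.p.obj x')) f')⟩
  let Ψ : c' ⟶ d := ObjectProperty.homMk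
    { left := ψ, right := φ, w := (IsStronglyCartesian.fac 𝒴.p f (F.map φ) (Category.id_comp f).symm (ψ ≫ d.obj.hom)).symm }
  haveI hΨ : (graph F).p.IsStronglyCartesian f Ψ := isStronglyCartesian_mk hF f Ψ hφ hψ
  haveI : (graph F).p.IsCartesian f Ψ := @IsStronglyCartesian.isCartesian_of_isStronglyCartesian _ _ _ _ _ _ _ _ _ f Ψ hΨ
  haveI : (graph F).p.IsCartesian f Φ := @IsStronglyCartesian.isCartesian_of_isStronglyCartesian _ _ _ _ _ _ _ _ _ f Φ hΦ
  let E : c ≅ c' := IsCartesian.domainUniqueUpToIso (graph F).p f Ψ Φ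
  have hE : E.hom ≫ Ψ = Φ := IsCartesian.fac (graph F).p f Ψ Φ
  haveI hEl : IsHomLift (graph F).p (𝟙 (𝒳.p.obj x')) E.hom := IsCartesian.map_isHomLift (graph F).p f Ψ Φ
  constructor
  · rw [← hE]
    let El : c.obj.left ≅ c'.obj.left := (vFun F).toFunctor.mapIso E
    haveI : IsHomLift 𝒴.p (𝟙 (𝒳.p.obj x')) El.hom := lift_left _ E.hom
    haveI : 𝒴.p.IsStronglyCartesian f Ψ.hom.left := hψ
    exact inferInstanceAs (𝒴.p.IsStronglyCartesian f (El.hom ≫ Ψ.hom.left))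
  · rw [← hE]
    let Er : c.obj.right ≅ c'.obj.right := (wFun F).toFunctor.mapIso E
    haveI : IsHomLift 𝒳.p (𝟙 (𝒳.p.obj x')) Er.hom := lift_right _ E.hom
    haveI : 𝒳.p.IsStronglyCartesian f Ψ.hom.right := hφ
    exact inferInstanceAs (𝒳.p.IsStronglyCartesian f (Er.hom ≫ Ψ.hom.right))

theorem exists_factor [𝒳.p.IsFibered] [𝒴.p.IsFibered] (hF : FibCat.PreservesStronglyCartesian F) :
    ∃ (𝒳' : BasedCategory.{v, max u v} C) (a : 𝒳 ⥤ᵇ 𝒳') (b : 𝒳' ⥤ᵇ 𝒴) (c : 𝒳' ⥤ᵇ 𝒳),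
      𝒳'.p.IsFibered ∧ FibCat.PreservesStronglyCartesian a ∧ FibCat.PreservesStronglyCartesian b ∧
        FibCat.PreservesStronglyCartesian c ∧ BasedFunctor.comp a b = F ∧
        a.toFunctor.Full ∧ a.toFunctor.Faithful ∧ Nonempty (c.toFunctor ⊣ a.toFunctor) ∧
        b.toFunctor.IsFibered :=
  ⟨graph F, uFun F, vFun F, wFun F, graph_isFibered hF, (preserves_all hF).1, (preserves_all hF).2.1,
    (preserves_all hF).2.2, rfl, inferInstance, inferInstance, ⟨adj F⟩, vFun_isFibered hF⟩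

end Groth.Agent.FibFactorLib
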